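import Cfsg.Agent.H364.OutLie

/-!
# S5745, layer ENUM: the exact order of `Aut T`
-/

set_option autoImplicit false

namespace Cfsg.Agent.H889.Enum

open Cfsg Cfsg.Agent.OrdDiv Finset
open Cfsg.Agent.H902 Cfsg.Agent.H902.Names Cfsg.Agent.H934.OutB Cfsg.Agent.H364.OutLie

universe u

/-- `|Out T|` -/
def ou : Art.Sh → ℕ → ℕ → ℕ
  | .L n, p, f => (if n = 2 then 1 else 2) * Nat.gcd n (p ^ f - 1) * f
  | .C n, p, f => (if n = 2 ∧ p = 2 then 2 else 1) * Nat.gcd 2 (p ^ f - 1) * f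
  | .U n, p, f => 2 * Nat.gcd n (p ^ f + 1) * f
  | .D n, p, f => ((if n = 4 then 3 else 1) *
      (if p = 2 then 2 else (if (n * (p ^ f - 1) / 2) % 2 = 0 then 8 else 4))) * f
  | .DD n, p, f => (if p = 2 then 2 else (if (n * (p ^ f - 1) / 2) % 2 = 0 then 4 else 8)) * f
  | .G2, p, f => (if p = 3 then 2 else 1) * f
  | .F4, p, f => Nat.gcd 2 p * f
  | .E6, p, f => 2 * Nat.gcd 3 (p ^ f - 1) * f
  | .E7, p, f => Nat.gcd 2 (p ^ f - 1) * f
  | .E8, _, f => 1 * f
  | .TE6, p, f => 2 * Nat.gcd 3 (p ^ f + 1) * f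
  | .TD4, _, f => 3 * f
  | .Sz, _, f => 1 * f
  | .Ree, _, f => 1 * f
  | .TF4, _, f => 1 * f

theorem card_aut {S : Type u} [Group S] [Finite S] [IsSimpleGroup S] (hna : ¬ ∀ a b : S, a * b = b * a)
    {g : Grp} {X : Art.Sh} {p f : ℕ} (hg : IsLie g X p f) (h : OrdDiv.Real g S) (hr : Art.Real X p f (Nat.card S)) :
    Nat.card (MulAut S) = ou X p f * Nat.card S := by
  have hna' : ¬ IsMulCommutative S := fun hc => hna fun a b => hc.is_comm.comm a b
  have key : ∀ n, Nat.card (Cfsg.Out S) = n → Nat.card (MulAut S) = n * Nat.card S := by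
    rintro n rfl
    exact (card_out_mul S hna').symm
  obtain ⟨hp, hf, hok, -⟩ := hr
  have hpf := Fact.mk hp
  cases hg with
  | psl n p f =>
    obtain ⟨F, _, _, hF, ⟨e⟩⟩ := h
    have h1 := Cfsg.Agent.S0813.result p f hf hF n hok.1 hok.2
    rw [card_pgl hok.1, hF] at h1
    rw [mulaut_congr e, h1, Nat.card_congr e.toEquiv, ou]
    ring
  | psp n p f =>
    obtain ⟨F, _, _, hF, ⟨e⟩⟩ := h
    have h1 := Cfsg.Agent.S0814.result p f hf hF n hok.1 hok.2
    rw [mulaut_congr e, h1, Nat.card_congr e.toEquiv, ou]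
  | oodd n p f hn ho =>
    obtain ⟨F, _, _, hF, ⟨e⟩⟩ := h
    have hpo : Odd p := by
      rcases hp.eq_two_or_odd' with h | h
      · subst h
        exact absurd ho (by rw [Nat.not_odd_iff_even]; exact (even_two.pow_of_ne_zero (by omega)))
      · exact h
    have h1 := Cfsg.Agent.S0816.result p f hf hF hpo n hn
    have h3 : Nat.gcd 2 (p ^ f - 1) = 2 := by
      apply Nat.gcd_eq_left
      obtain ⟨k, hk⟩ := ho
      rw [hk]
      exact ⟨k, by omega⟩
    rw [mulaut_congr e, h1, Nat.card_congr e.toEquiv, ou, h3, if_neg (by omega), one_mul]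
  | psu n p f =>
    obtain ⟨F, _, _, hF, ⟨e⟩⟩ := h
    have h1 := Cfsg.Agent.S0815.result p f hf rfl hF n hok.1 (fun h => by have := hok.2 h.1; omega)
    rw [mulaut_congr e, h1, Nat.card_congr e.toEquiv, ou]
    ring
  | oplus n p f =>
    obtain ⟨F, _, _, hF, ⟨e⟩⟩ := h
    have h1 := Cfsg.Agent.S0817.result p f hf hF n hok
    rw [mulaut_congr e, h1, Nat.card_congr e.toEquiv, ou]
    simp only [Nat.even_iff]
  | ominus n p f =>
    obtain ⟨F, _, _, a, b, hF, hab, ⟨e⟩⟩ := h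
    have h1 := Cfsg.Agent.S0818.result p f hf hF n hok a b hab
    rw [mulaut_congr e, h1, Nat.card_congr e.toEquiv, ou]
    simp only [Nat.even_iff]
  | g2 p f =>
    obtain ⟨F, _, _, hF, ⟨e⟩⟩ := h
    have := charP_of_card hp hf hF
    have h1 := Cfsg.Agent.S2121.result p f hF hok
    refine key _ ?_
    rw [card_out_congr e, h1, ou]
    split_ifs <;> ring
  | f4 p f =>
    obtain ⟨F, _, _, hF, ⟨e⟩⟩ := h
    have := charP_of_card hp hf hF
    exact key _ (by rw [card_out_congr e, Cfsg.Agent.S2122.result p f hF, ou])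
  | e6 p f =>
    obtain ⟨F, _, _, hF, ⟨e⟩⟩ := h
    have := charP_of_card hp hf hF
    exact key _ (by rw [card_out_congr e, Cfsg.Agent.S2123.result p f hF, ou])
  | e7 p f =>
    obtain ⟨F, _, _, hF, ⟨e⟩⟩ := h
    have := charP_of_card hp hf hF
    exact key _ (by rw [card_out_congr e, Cfsg.Agent.S2124.result p f hF, ou])
  | e8 p f =>
    obtain ⟨F, _, _, hF, ⟨e⟩⟩ := h
    have := charP_of_card hp hf hF
    exact key _ (by rw [card_out_congr e, Cfsg.Agent.S2125.result p f hF, ou, one_mul])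
  | te6 p f =>
    obtain ⟨F, _, _, hF, ⟨e⟩⟩ := h
    have hF' : Fintype.card F = p ^ (2 * f) := by rw [hF, ← pow_mul, mul_comm]
    have := charP_of_card hp (by omega) hF'
    exact key _ (by rw [card_out_congr e, Cfsg.Agent.S2130.result p f hF' hf, ou])
  | td4 p f =>
    obtain ⟨F, _, _, hF, ⟨e⟩⟩ := h
    have hF' : Fintype.card F = p ^ (3 * f) := by rw [hF, ← pow_mul, mul_comm]
    have := charP_of_card hp (by omega) hF'
    exact key _ (by rw [card_out_congr e, Cfsg.Agent.S2129.result p f hF' hf, ou])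
  | sz p f =>
    obtain ⟨F, _, _, m, hm, hF, hq, ⟨e⟩⟩ := h
    obtain ⟨rfl, -, -⟩ := hok
    have hfm : f = 2 * m + 1 := Nat.pow_right_injective (le_refl 2) hq
    exact key _ (by rw [card_out_congr e, Cfsg.Agent.S2126.result hm (hF.trans hq), ou, one_mul, hfm])
  | ree p f =>
    obtain ⟨F, _, _, m, hm, hF, hq, ⟨e⟩⟩ := h
    obtain ⟨rfl, -, -⟩ := hok
    have hfm : f = 2 * m + 1 := Nat.pow_right_injective (by norm_num : 2 ≤ 3) hq
    exact key _ (by rw [card_out_congr e, Cfsg.Agent.S2127.result hm (hF.trans hq), ou, one_mul, hfm])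
  | tf4 p f =>
    obtain ⟨F, _, _, m, hm, hF, hq, ⟨e⟩⟩ := h
    obtain ⟨rfl, -, -⟩ := hok
    have hfm : f = 2 * m + 1 := Nat.pow_right_injective (le_refl 2) hq
    exact key _ (by rw [card_out_congr e, Cfsg.Agent.S2128.result hm (hF.trans hq), ou, one_mul, hfm])

end Cfsg.Agent.H889.Enum
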