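import Cfsg.Agent.H889.Enum.UBS
import Cfsg.Agent.H252.EN.Tab

/-!
# S5745, layer UB: the sharper bound, evaluated (helper889)

`kill_syl` (any `B` with `|Aut T| ∣ B`), `kill_sq` (`B` not divisible by `m ^ 2`, `m ≥ 60`), `kill_H` (any `k`, `|H| ∣ B`).
-/

set_option autoImplicit false

namespace Cfsg.Agent.H889.Enum

open Subgroup Cfsg.Agent.H284 Cfsg.Agent.H59.EP Cfsg.Agent.H209.EPX Cfsg.Agent.H226.EX Cfsg.Agent.H252.EN

/-- `ubs`, evaluated -/
def ubc (l : List (ℕ × ℕ)) (B : ℕ) (z : Bool) : ℕ :=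
  (1 + ((l.map fun x => galC x.1 x.2 * (B / max 6 (x.1 ^ x.2))).sum + B ^ 2 / 120 + w3 B z) * (2 * (B / 6))) * B

theorem ubc_eq (l : List (ℕ × ℕ)) (B : ℕ) (z : Bool) : ubc l B z = ubs l B z := by
  rw [ubc, ubs]
  simp only [galC_eq]

/-- no squares of numbers `≥ 60` divide `B` -/
def sqok (r B : ℕ) : Bool :=
  Nat.blt B ((r + 1) ^ 2) && (List.range (r + 1)).all fun m => Nat.blt m 60 || B % m ^ 2 != 0

theorem sqok_spec {r B : ℕ} (hB : B ≠ 0) (h : sqok r B = true) : ∀ m, 60 ≤ m → ¬ m ^ 2 ∣ B := by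
  rw [sqok, Bool.and_eq_true] at h
  obtain ⟨h1, h2⟩ := h
  intro m hm hd
  have h3 : m ^ 2 ≤ B := Nat.le_of_dvd (Nat.pos_of_ne_zero hB) hd
  have h4 : m < r + 1 := by
    by_contra hcon
    push Not at hcon
    have h5 : (r + 1) ^ 2 ≤ m ^ 2 := Nat.pow_le_pow_left hcon 2
    rw [Nat.blt_eq] at h1
    omega
  have h5 := List.all_eq_true.1 h2 m (List.mem_range.2 h4)
  rw [Bool.or_eq_true, Nat.blt_eq, bne_iff_ne] at h5
  rcases h5 with h5 | h5
  · omega
  · exact h5 (Nat.mod_eq_zero_of_dvd hd)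

/-- the test -/
def tstS (B g : ℕ) : Bool := good B && Nat.blt (ubc (fac B) B false) g

/-- the test without the products -/
def tstZ (r B g : ℕ) : Bool := good B && (sqok r B && Nat.blt (ubc (fac B) B true) g)

variable {G : Type} [Group G] [Finite G] [IsSimpleGroup G] {H N : Subgroup G} {T : Type} [Group T]

theorem good_ne {B : ℕ} (h : good B = true) : B ≠ 0 := by
  obtain ⟨h1, -⟩ := good_spec h
  obtain ⟨-, i2, -⟩ := galSum_list (fac B) fac_prime fac_nodup
  rwa [h1] at i2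

/-- any `k`, `|H|` divides `B` -/
theorem kill_H (hg : TwoGen.{0}) {k : ℕ} {e : N ≃* (Fin k → T)} (h : EPS H N e) {B g : ℕ} (hd : Nat.card H ∣ B)
    (hG : g ≤ Nat.card G) (ht : tstS B g = true) : False := by
  rw [tstS, Bool.and_eq_true, Nat.blt_eq, ubc_eq] at ht
  obtain ⟨h1, h2⟩ := good_spec ht.1
  have h3 := card_le_syl hg h hd (fac B) fac_prime fac_nodup h1 h2 (z := false) (fun h => absurd h (by decide))
  omega

theorem kill_syl (hg : TwoGen.{0}) [Finite T] {e : N ≃* (Fin 1 → T)} (h : EPS H N e) {B g : ℕ}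
    (hd : Nat.card (MulAut T) ∣ B) (hG : g ≤ Nat.card G) (ht : tstS B g = true) : False :=
  kill_H hg h ((card_dvd_aut h).trans hd) hG ht

/-- any `k`, `|H|` divides `B`, no squares -/
theorem kill_Hz (hg : TwoGen.{0}) {k : ℕ} {e : N ≃* (Fin k → T)} (h : EPS H N e) {r B g : ℕ} (hd : Nat.card H ∣ B)
    (hG : g ≤ Nat.card G) (ht : tstZ r B g = true) : False := by
  rw [tstZ, Bool.and_eq_true, Bool.and_eq_true, Nat.blt_eq, ubc_eq] at ht
  obtain ⟨h1, h2⟩ := good_spec ht.1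
  have h3 := card_le_syl hg h hd (fac B) fac_prime fac_nodup h1 h2 (z := true)
    (fun _ => sqok_spec (good_ne ht.1) ht.2.1)
  omega

theorem kill_sq (hg : TwoGen.{0}) [Finite T] {e : N ≃* (Fin 1 → T)} (h : EPS H N e) {r B g : ℕ}
    (hd : Nat.card (MulAut T) ∣ B) (hG : g ≤ Nat.card G) (ht : tstZ r B g = true) : False :=
  kill_Hz hg h ((card_dvd_aut h).trans hd) hG ht

/-! ### the numerical tests -/

/-- `G₂(8)` in `E₇(3)` -/
theorem n_e7_g2 : tstS (3 * 4329310519296) 1271375236818136742240479751139021644554379203770766254617395200 = true := by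
  decide +kernel

/-- `Fi₂₂` in `E₇(3)` -/
theorem n_e7_fi22 : tstS 129123503308800 1271375236818136742240479751139021644554379203770766254617395200 = true := by
  decide +kernel

/-- `L₂(25)` in `F₄(2)` -/
theorem n_f4_l25 : tstZ 176 31200 3311126603366400 = true := by decide +kernel

/-- the Tits group in `F₄(4)` -/
theorem n_f4_tits : tstS 35942400 (4 ^ 24 * (4 ^ 2 - 1) * (4 ^ 6 - 1) * (4 ^ 8 - 1) * (4 ^ 12 - 1)) = true := by
  decide +kernel

end Cfsg.Agent.H889.Enum
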