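import Cfsg.Agent.H889.Enum.Glue
import Cfsg.Agent.H889.Enum.Kill
import Cfsg.Agent.H252.EN.TabChk
import Cfsg.Agent.H226.EX.E7Two
import Cfsg.Agent.H805.EPX.Base

/-!
# S5745, layer ENUM: the cross cells of `E₈(q)` and `E₇(q)` (helper889)

`cross_e8`, `cross_e7` : `Cross p G`, no rows left; `row_e7_fi22` : the sporadic row `Fi₂₂`, `q = 3`.
-/

set_option autoImplicit false

namespace Cfsg.Agent.H889.Enum

open Cfsg Cfsg.Agent.OrdDiv Cfsg.Agent.H902 Cfsg.Agent.H902.Names Cfsg.Agent.H290.ElReg Cfsg.Agent.H290.ElTab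
open Cfsg.Agent.H209.EPX Cfsg.Agent.H542.EPX Cfsg.Agent.H252.EN Cfsg.Agent.H59.EP

/-- two different primes do not divide a prime power -/
theorem not_pow {p f r s : ℕ} (hp : p.Prime) (hr : r.Prime) (hs : s.Prime) (hrs : r ≠ s) (h1 : r ∣ p ^ f)
    (h2 : s ∣ p ^ f) : False := by
  have h3 := (Nat.prime_dvd_prime_iff_eq hr hp).1 (hr.dvd_of_dvd_pow h1)
  have h4 := (Nat.prime_dvd_prime_iff_eq hs hp).1 (hs.dvd_of_dvd_pow h2)
  exact hrs (h3.trans h4.symm)

/-- `p ^ f = r` with `r` prime -/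
theorem eq_of_pow {p f r : ℕ} (hp : p.Prime) (hr : r.Prime) (h : p ^ f = r) : p = r := by
  have h1 : r ∣ p ^ f := by rw [h]
  exact ((Nat.prime_dvd_prime_iff_eq hr hp).1 (hr.dvd_of_dvd_pow h1)).symm

/-- **`E₈(q)`** -/
theorem cross_e8 (hg : TwoGen.{0}) (hK : AllK) (F : Type) [Field F] [Fintype F] (p : ℕ) [Fact p.Prime] [CharP F p]
    [IsSimpleGroup ↥(Lie.chevE8.group F)] : Cross p ↥(Lie.chevE8.group F) := by
  obtain ⟨f, hf, hF⟩ := exists_card F p
  refine cross_of_tab hg hK (D := 248) le_rfl (fth_e8 F) (Y := .E8) (by simp [Ys]) (real_e8 hf hF) chk_e8 chkA_e8 ?_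
    chkTi_e8 ?_ ?_ ?_
  · intro T _ i hi n hT
    exact (alt_le_e8 (p := p) hi hT).trans (by split_ifs <;> norm_num)
  · intro H N T _ _ e h hL g X l a hgg hT hA hlp hm
    exact absurd hm List.not_mem_nil
  · intro H N T _ _ e h hL n hn hle hT hm
    exact absurd hm List.not_mem_nil
  · intro H N T _ _ e h hT hm
    exact absurd hm List.not_mem_nil

/-- the order of `E₇(2)` -/
theorem card_e7_two {p f M : ℕ} (h : Art.Real .E7 p f M) (hq : p ^ f = 2) :
    M = 7997476042075799759100487262680802918400 := by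
  have h1 := h.eq
  rw [hq] at h1
  have h2 : Art.dd .E7 2 * M = M := by
    show Nat.gcd 2 (2 - 1) * M = M
    norm_num
  rw [h2] at h1
  rw [h1]
  decide +kernel

/-- the order of `E₇(3)` -/
theorem card_e7_three {p f M : ℕ} (h : Art.Real .E7 p f M) (hq : p ^ f = 3) :
    M = 1271375236818136742240479751139021644554379203770766254617395200 := by
  have h1 := h.eq
  rw [hq] at h1
  have h2 : Art.dd .E7 3 * M = 2 * M := by
    show Nat.gcd 2 (3 - 1) * M = 2 * M
    norm_num
  rw [h2] at h1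
  have h3 : 3 ^ Art.NN .E7 * Art.num .E7 3 =
      2 * 1271375236818136742240479751139021644554379203770766254617395200 := by decide +kernel
  rw [h3] at h1
  exact Nat.eq_of_mul_eq_mul_left (by norm_num) h1

/-- **`E₇(q)`** -/
theorem cross_e7 (hg : TwoGen.{0}) (hK : AllK) (F : Type) [Field F] [Fintype F] (p : ℕ) [Fact p.Prime] [CharP F p]
    [IsSimpleGroup ↥(Lie.chevE7.group F)] : Cross p ↥(Lie.chevE7.group F) := by
  obtain ⟨f, hf, hF⟩ := exists_card F p
  have hp : p.Prime := Fact.out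
  have hR := real_e7 hf hF
  refine cross_of_tab hg hK (D := 133) (by norm_num) (fth_e7 F) (Y := .E7) (by simp [Ys]) hR chk_e7 chkA_e7 ?_
    chkTi_e7 ?_ ?_ ?_
  · intro T _ i hi n hT
    exact (alt_le_e7 (p := p) hi hT).trans (by split_ifs <;> norm_num)
  · intro H N T _ _ e h hL g X l a hgg hT hA hlp hm
    have hs : IsSimpleGroup T := h.simple
    have hna : ¬ ∀ a b : T, a * b = b * a := by
      obtain ⟨a, b, hab⟩ := h.nab
      exact fun hc => hab (hc a b)
    have hau := aut_ouN hna hgg hT hA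
    have hod := real_eq hA
    simp only [alE7, List.mem_cons, Prod.mk.injEq, List.not_mem_nil, or_false] at hm
    rcases hm with ⟨⟨rfl, rfl, rfl⟩, hq⟩ | ⟨-, hq⟩ | ⟨⟨rfl, rfl, rfl⟩, hq⟩
    · have h1 : Nat.card T = 4585351680 := by
        rw [hod]
        decide +kernel
      refine Cfsg.Agent.H226.EX.e7q2_card hg (card_e7_two hR hq) h h1 ?_
      rw [hau, h1]
      decide +kernel
    · refine not_pow hp Nat.prime_three Nat.prime_five (by norm_num) (f := f) ?_ ?_
      · rw [hq]; norm_num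
      · rw [hq]; norm_num
    · have h1 : Nat.card T = 4329310519296 := by
        rw [hod]
        decide +kernel
      refine kill_syl hg h (B := 3 * 4329310519296) ?_ (card_e7_three hR hq).symm.le n_e7_g2
      rw [hau, h1]
      decide +kernel
  · intro H N T _ _ e h hL n hn hle hT hm
    simp only [List.mem_cons, Prod.mk.injEq, List.not_mem_nil, or_false] at hm
    rcases hm with ⟨rfl, hq⟩ | ⟨rfl, hq⟩
    · obtain ⟨i⟩ := hT
      exact Cfsg.Agent.H226.EX.e7q2_alt13 hg (card_e7_two hR hq) h i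
    · have h1 := alt_le_e7 (p := p) (emb_injective e) hT
      have h2 := eq_of_pow hp Nat.prime_two hq
      rw [if_neg (by omega)] at h1
      omega
  · intro H N T _ _ e h hT hm
    exact absurd hm List.not_mem_nil

/-- **the sporadic row** `T = Fi₂₂` in `E₇(3)` -/
theorem row_e7_fi22 (hg : TwoGen.{0}) (F : Type) [Field F] [Fintype F] [IsSimpleGroup ↥(Lie.chevE7.group F)]
    (hF : Fintype.card F = 3) (H N : Subgroup ↥(Lie.chevE7.group F)) (T : Type) [Group T] (e : N ≃* (Fin 1 → T))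
    (h : EPS H N e) (hT : Spor.IsoFi22 T) : False := by
  have : Fact (Nat.Prime 3) := ⟨Nat.prime_three⟩
  have hF3 : Fintype.card F = 3 ^ 1 := by rw [hF]; norm_num
  have : CharP F 3 := Cfsg.Agent.H364.OutLie.charP_of_card Nat.prime_three le_rfl hF3
  have hR : Art.Real .E7 3 1 (Nat.card ↥(Lie.chevE7.group F)) :=
    real_e7 (F := F) (p := 3) le_rfl hF3
  have hs : IsSporadicGroup T := by unfold IsSporadicGroup; tauto
  have hc : Nat.card T = 64561751654400 := NotCT.Orders.fi22 hT
  have h1 : Nat.card H ∣ 129123503308800 := by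
    rcases Cfsg.Agent.H805.EPX.card_H h hs (by rw [hc]) with h2 | h2
    · rw [h2, hc]; norm_num
    · rw [h2, hc]
  exact kill_H hg h h1 (card_e7_three hR (by norm_num)).symm.le n_e7_fi22

end Cfsg.Agent.H889.Enum
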