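import Cfsg.Agent.H889.Enum.Aut
import Cfsg.Agent.H889.Enum.Base
import Cfsg.Agent.H252.EN.Tab
import Cfsg.Agent.H59.EP.UBGen
import Cfsg.Agent.H226.EX.Glue
import Cfsg.Agent.TitsK.Model
import Cfsg.Agent.TitsK.Inst
import Cfsg.Agent.TitsK.SheetT
import Cfsg.Agent.NotCT.Orders
import Cfsg.Agent.S0254
import Cfsg.Agent.S2602
import Cfsg.Agent.S2119

/-!
# S5745, layer ENUM: the glue of the cross cells

* `aut_ouN`, `aut_alt`, `aut_tits` : the order of `Aut T`;
* `cross_of_tab` : `Cross p G` from helper252's tables (`chk`, `chkA`, `chkTi`) and the rows of the listed pairs;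
* `real_e8 …` : the orders of the models.
-/

set_option autoImplicit false

namespace Cfsg.Agent.H889.Enum

open Cfsg Cfsg.Agent.OrdDiv Cfsg.Agent.H902 Cfsg.Agent.H902.Names Cfsg.Agent.H290.ElReg Cfsg.Agent.H290.ElTab
open Cfsg.Agent.H209.EPX Cfsg.Agent.H542.EPX Cfsg.Agent.H252.EN
open Cfsg.Agent.H934.OutB (card_out_mul card_out_congr)

universe u

/-! ### the order of the automorphism group -/

theorem mod_four {q : ℕ} (hq : q % 2 = 1) (m : ℕ) :
    q ^ m % 4 = if (m * (q - 1) / 2) % 2 = 0 then 1 else 3 := by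
  obtain ⟨k, hk⟩ : ∃ k, q = 4 * k + 1 ∨ q = 4 * k + 3 := ⟨q / 4, by omega⟩
  rcases hk with rfl | rfl
  · have h1 : m * (4 * k + 1 - 1) / 2 = 2 * (m * k) := by
      rw [Nat.add_sub_cancel, show m * (4 * k) = 2 * (m * k) * 2 by ring, Nat.mul_div_cancel _ (by norm_num)]
    rw [h1, if_pos (by omega), Nat.pow_mod]
    norm_num [Nat.add_mod]
  · have h1 : m * (4 * k + 3 - 1) / 2 = 2 * (m * k) + m := by
      rw [show 4 * k + 3 - 1 = 4 * k + 2 by omega, show m * (4 * k + 2) = (2 * (m * k) + m) * 2 by ring,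
        Nat.mul_div_cancel _ (by norm_num)]
    rw [h1, Nat.pow_mod, show (4 * k + 3) % 4 = 3 by omega]
    obtain ⟨j, rfl | rfl⟩ : ∃ j, m = 2 * j ∨ m = 2 * j + 1 := ⟨m / 2, by omega⟩
    · rw [if_pos (by omega), pow_mul, Nat.pow_mod]
      norm_num
    · rw [if_neg (by omega), pow_succ, pow_mul, Nat.mul_mod, Nat.pow_mod]
      norm_num

theorem gcd_minus {q : ℕ} (hq : q % 2 = 1) (m : ℕ) :
    Nat.gcd 4 (q ^ m - 1) = if (m * (q - 1) / 2) % 2 = 0 then 4 else 2 := by
  have h1 := mod_four hq m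
  have h2 : 0 < q ^ m := Nat.pos_of_ne_zero (pow_ne_zero _ (by omega))
  rw [Nat.gcd_rec]
  split_ifs with h
  · rw [if_pos h] at h1
    rw [show (q ^ m - 1) % 4 = 0 by omega]
    rfl
  · rw [if_neg h] at h1
    rw [show (q ^ m - 1) % 4 = 2 by omega]
    rfl

theorem gcd_plus {q : ℕ} (hq : q % 2 = 1) (m : ℕ) :
    Nat.gcd 4 (q ^ m + 1) = if (m * (q - 1) / 2) % 2 = 0 then 2 else 4 := by
  have h1 := mod_four hq m
  rw [Nat.gcd_rec]
  split_ifs with h
  · rw [if_pos h] at h1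
    rw [show (q ^ m + 1) % 4 = 2 by omega]
    rfl
  · rw [if_neg h] at h1
    rw [show (q ^ m + 1) % 4 = 0 by omega]
    rfl

theorem gcd_odd {n : ℕ} (h : n % 2 = 1) : Nat.gcd 4 n = 1 := by
  have h1 : Nat.Coprime 2 n := (Nat.coprime_two_left).2 (Nat.odd_iff.2 h)
  exact Nat.Coprime.pow_left 2 h1

theorem ou_eq {X : Art.Sh} {p f : ℕ} (hp : p.Prime) (hf : 1 ≤ f) (hok : Art.Ok X p f) : ou X p f = ouN X p f := by
  have hodd : p ≠ 2 → p ^ f % 2 = 1 := fun h2 => Nat.odd_iff.1 ((hp.odd_of_ne_two h2).pow)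
  cases X with
  | L n => rfl
  | C n => rfl
  | U n => rfl
  | D n =>
    have hn : 4 ≤ n := hok
    rw [ou, ouN]
    by_cases h2 : p = 2
    · subst h2
      have h3 : 2 ∣ (2 ^ f) ^ n := by
        rw [← pow_mul]
        exact dvd_pow_self 2 (by positivity)
      have h4 : 0 < (2 ^ f) ^ n := by positivity
      rw [gcd_odd (by omega), if_pos rfl]
      split_ifs <;> rfl
    · rw [gcd_minus (hodd h2), if_neg h2]
      split_ifs <;> rfl
  | DD n =>
    have hn : 4 ≤ n := hok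
    rw [ou, ouN]
    by_cases h2 : p = 2
    · subst h2
      have h3 : 2 ∣ (2 ^ f) ^ n := by
        rw [← pow_mul]
        exact dvd_pow_self 2 (by positivity)
      rw [gcd_odd (by omega), if_pos rfl]
    · rw [gcd_plus (hodd h2), if_neg h2]
      split_ifs <;> rfl
  | G2 => rfl
  | F4 =>
    rw [ou, ouN]
    by_cases h2 : p = 2
    · subst h2
      rfl
    · rw [if_neg h2, (Nat.coprime_primes Nat.prime_two hp).2 (Ne.symm h2)]
  | E6 => rfl
  | E7 => rfl
  | E8 => rw [ou, ouN, one_mul]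
  | TE6 => rfl
  | TD4 => rfl
  | Sz => rw [ou, ouN, one_mul]
  | Ree => rw [ou, ouN, one_mul]
  | TF4 => rw [ou, ouN, one_mul]

/-- **the order of the automorphism group of a group of Lie type**, with helper252's `ouN` -/
theorem aut_ouN {S : Type u} [Group S] [Finite S] [IsSimpleGroup S] (hna : ¬ ∀ a b : S, a * b = b * a)
    {g : Grp} {X : Art.Sh} {p f : ℕ} (hg : IsLie g X p f) (h : OrdDiv.Real g S) (hr : Art.Real X p f (Nat.card S)) :
    Nat.card (MulAut S) = ouN X p f * Nat.card S := by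
  rw [card_aut hna hg h hr, ou_eq hr.hp hr.hf hr.ok]

theorem card_alt {n : ℕ} (hn : 2 ≤ n) : 2 * Nat.card (alternatingGroup (Fin n)) = n.factorial := by
  have : Nontrivial (Fin n) := Fin.nontrivial_iff_two_le.2 hn
  rw [two_mul_nat_card_alternatingGroup, Nat.card_perm, Nat.card_eq_fintype_card, Fintype.card_fin]

theorem card_out_six : Nat.card (Out (alternatingGroup (Fin 6))) = 4 := by
  have : Fact (Nat.Prime 3) := ⟨Nat.prime_three⟩
  have : Fintype (GaloisField 3 2) := Fintype.ofFinite _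
  have hF : Fintype.card (GaloisField 3 2) = 3 ^ 2 := by
    rw [← Nat.card_eq_fintype_card]
    exact GaloisField.card 3 2 (by norm_num)
  obtain ⟨e⟩ := Cfsg.Agent.S0254.result (F := GaloisField 3 2) (by rw [hF]; norm_num)
  rw [← card_out_congr e]
  obtain ⟨φ, h1, -, h2⟩ := Cfsg.Agent.S2602.result (F := GaloisField 3 2) (p := 3) (f := 2) (by norm_num) hF (by norm_num)
  have h3 := Subgroup.card_mul_index φ.ker
  rw [h2, Subgroup.index_ker, MonoidHom.range_eq_top.2 h1, Subgroup.card_top] at h3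
  have h4 : Nat.card (Multiplicative (ZMod 2)) = 2 := by
    rw [Nat.card_congr Multiplicative.toAdd, Nat.card_zmod]
  rw [h4] at h3
  rw [← h3]
  norm_num

theorem aut_alt {T : Type u} [Group T] [Finite T] [IsSimpleGroup T] (hna : ¬ ∀ a b : T, a * b = b * a) {n : ℕ}
    (hn : 5 ≤ n) (h : Nonempty (T ≃* alternatingGroup (Fin n))) : Nat.card (MulAut T) = autA n := by
  have hna' : ¬ IsMulCommutative T := fun hc => hna fun a b => hc.is_comm.comm a b
  obtain ⟨e⟩ := h
  rw [autA]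
  split_ifs with h6
  · subst h6
    have h1 := card_alt (n := 6) (by norm_num)
    rw [← Nat.card_congr e.toEquiv] at h1
    have h2 : Nat.card T = 360 := by
      have h3 : (6 : ℕ).factorial = 720 := by decide
      omega
    rw [← card_out_mul T hna', card_out_congr e, card_out_six, h2]
  · rw [Cfsg.Agent.H364.OutLie.mulaut_congr e,
      ← Nat.card_congr (Equiv.ofBijective _ (Cfsg.Agent.S2119.result n (by omega) h6)),
      Nat.card_perm, Nat.card_eq_fintype_card, Fintype.card_fin]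

theorem out_dvd_of {X Y : Type*} [Group X] [Group Y] (h : Nat.card (Cfsg.Out Y) ∣ 2) (e : Nonempty (X ≃* Y)) :
    Nat.card (Cfsg.Out X) ∣ 2 := by
  obtain ⟨e⟩ := e
  rwa [card_out_congr e]

set_option maxRecDepth 100000 in
theorem out_tits {T : Type u} [Group T] (h : Lie.IsoTits T) : Nat.card (Cfsg.Out T) ∣ 2 := by
  obtain ⟨e⟩ := h
  obtain ⟨e'⟩ := Cfsg.Agent.TitsK.exists_equiv
  have hfin : Finite Cfsg.Agent.FourTwo.Base.LL := by infer_instance
  have h1 : Nat.card (Cfsg.Out ↥Cfsg.Agent.TitsK.TT) ∣ 2 := Cfsg.Agent.TitsK.tdata.index_inn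
  exact out_dvd_of h1 ⟨e.trans e'⟩

theorem aut_tits {T : Type u} [Group T] [Finite T] [IsSimpleGroup T] (hna : ¬ ∀ a b : T, a * b = b * a)
    (h : Lie.IsoTits T) : Nat.card (MulAut T) ∣ 35942400 := by
  have hna' : ¬ IsMulCommutative T := fun hc => hna fun a b => hc.is_comm.comm a b
  rw [← card_out_mul T hna', NotCT.Orders.tits h]
  exact Nat.mul_dvd_mul (out_tits h) (dvd_refl 17971200)

/-! ### the bound `Ub`, with `TwoGen` as a hypothesis -/

section ub

open Subgroup Cfsg.Agent.H284 Cfsg.Agent.H59.EP Cfsg.Agent.H226.EX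

variable {G : Type} [Group G] [Finite G] [IsSimpleGroup G] {H N : Subgroup G} {T : Type} [Group T]

/-- the bound if `|H|` divides `B` -/
theorem ub_dvd (hg : TwoGen.{0}) {k : ℕ} {e : N ≃* (Fin k → T)} (h : EPS H N e) {B : ℕ} (hd : Nat.card H ∣ B) :
    Ub B (Nat.card G) := by
  intro l h1 h2 hB hlt
  have h3 : Nat.card H ∣ (l.map fun x => x.1 ^ x.2).prod := by rwa [hB]
  have h3' := EPT.ncard_le_gen_dvd (ept_of_eps h) hg (hab_of_eps h) l h1 h2 h3 (by rwa [hB])
  have h4 := index_le_of h3' (Cfsg.Agent.H173.EP.ub1 inferInstance (ept_of_eps h) (by norm_num)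
    fun _ hx => EPT.six_le (ept_of_eps h) (hab_of_eps h) hx) le_rfl
  rw [hB] at h4
  have hB0 : 0 < B := by
    obtain ⟨_, i2, _⟩ := galSum_list l h1 h2
    rw [hB] at i2
    omega
  have h5 : Nat.card H ≤ B := Nat.le_of_dvd hB0 hd
  rw [← H.index_mul_card, ubl]
  refine Nat.mul_le_mul (h4.trans (Nat.add_le_add_left (Nat.mul_le_mul_left _ ?_) 1)) h5
  exact Nat.mul_le_mul_left 2 (Nat.div_le_div_right h5)

/-- the bound for `k = 1` if `|Aut T|` divides `B` -/
theorem ub_aut (hg : TwoGen.{0}) [Finite T] {e : N ≃* (Fin 1 → T)} (h : EPS H N e) {B : ℕ}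
    (hd : Nat.card (MulAut T) ∣ B) : Ub B (Nat.card G) := ub_dvd hg h ((card_dvd_aut h).trans hd)

omit [IsSimpleGroup G] in
/-- `|T|` divides `|G|` -/
theorem dvd_G {e : N ≃* (Fin 1 → T)} (h : EPS H N e) : Nat.card T ∣ Nat.card G :=
  (dvd_card h).trans (Subgroup.card_subgroup_dvd_card H)

end ub

/-! ### the frame -/

theorem dvd_tits {T : Type} [Group T] (h : Lie.IsoTits T) : Nat.card T = 17971200 := NotCT.Orders.tits h

/-- **The glue**: `Cross p G` from the tables and the rows of the listed pairs. -/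
theorem cross_of_tab (hg : Cfsg.Agent.H59.EP.TwoGen.{0}) (hK : AllK) {D p f : ℕ} [Fact p.Prime] (hD : D ≤ 248) {F : Type} [Field F] [CharP F p]
    {G : Type} [Group G] [Finite G] [IsSimpleGroup G] (hG : Fth D F G) {Y : Art.Sh} (hY : Y ∈ Ys)
    (hR : Art.Real Y p f (Nat.card G))
    {al : List ((Art.Sh × ℕ × ℕ) × ℕ)} (hc : chk Y D al = true)
    {m : ℕ} {alA : List (ℕ × ℕ)} (hcA : chkA Y m alA = true)
    (hm : ∀ (T : Type) [Group T] (i : T →* G), Function.Injective i → ∀ n, Nonempty (T ≃* alternatingGroup (Fin n)) →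
      n ≤ m)
    {alT : List (Unit × ℕ)} (hcT : chkTi Y alT = true)
    (rowL : ∀ (H N : Subgroup G) (T : Type) [Group T] [Finite T] (e : N ≃* (Fin 1 → T)), EPS H N e →
      ¬ IsLieTypeChar p T →
      ∀ (g : Grp) (X : Art.Sh) (l a : ℕ), IsLie g X l a → OrdDiv.Real g T → Art.Real X l a (Nat.card T) → l ≠ p →
        ((X, (l, a)), p ^ f) ∈ al → False)
    (rowA : ∀ (H N : Subgroup G) (T : Type) [Group T] [Finite T] (e : N ≃* (Fin 1 → T)), EPS H N e →
      ¬ IsLieTypeChar p T → ∀ n, 5 ≤ n → n ≤ m → Nonempty (T ≃* alternatingGroup (Fin n)) →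
        (n, p ^ f) ∈ alA → False)
    (rowT : ∀ (H N : Subgroup G) (T : Type) [Group T] [Finite T] (e : N ≃* (Fin 1 → T)), EPS H N e →
      Lie.IsoTits T → ((), p ^ f) ∈ alT → False) : Cross p G := by
  intro H N T _ e h hsp hL
  have hT : Finite T := finite_of e
  have hs : IsSimpleGroup T := h.simple
  have hna : ¬ ∀ a b : T, a * b = b * a := by
    obtain ⟨a, b, hab⟩ := h.nab
    exact fun hc => hab (hc a b)
  rcases cross_lie table hD hna (hK T hs) (fth_of hG (emb_injective e)) hL with h1 | h1 | h1 | h1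
  · obtain ⟨n, hn, hT⟩ := h1
    have hle : n ≤ m := hm T (emb e) (emb_injective e) n hT
    have h1 : 2 * Nat.card T = n.factorial := by
      obtain ⟨i⟩ := hT
      rw [Nat.card_congr i.toEquiv]
      exact card_alt (by omega)
    exact rowA H N T e h hL n hn hle hT (chkA_spec hY hcA hn hle h1 hR
      (ub_aut hg h (by rw [aut_alt hna hn hT])) (dvd_G h))
  · refine rowT H N T e h h1 (chkT_spec hY hcT hR ?_ (ub_aut hg h (aut_tits hna h1)) ?_)
    · rw [Nat.mod_zero]
      exact pow_ne_zero _ hR.hp.ne_zero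
    · have h2 := dvd_G h
      rwa [dvd_tits h1] at h2
  · exact hsp h1
  · obtain ⟨g, X, l, a, hgg, hT, hA, hr, hlp⟩ := h1
    exact rowL H N T e h hL g X l a hgg hT hA hlp (chk_spec hY hc hA hr hR hlp
      (ub_aut hg h (by rw [aut_ouN hna hgg hT hA])) (dvd_G h))

/-! ### the orders of the models -/

section models

variable {F : Type} [Field F] [Fintype F] {p : ℕ} [Fact p.Prime] [CharP F p]

/-- the order of the field -/
theorem exists_card (F : Type) [Field F] [Fintype F] (p : ℕ) [Fact p.Prime] [CharP F p] :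
    ∃ f : ℕ, 1 ≤ f ∧ Fintype.card F = p ^ f := by
  obtain ⟨f, -, hf⟩ := FiniteField.card F p
  exact ⟨f, f.pos, hf⟩

theorem real_e8 {f : ℕ} (hf : 1 ≤ f) (hF : Fintype.card F = p ^ f) :
    Art.Real .E8 p f (Nat.card ↥(Lie.chevE8.group F)) := by
  refine ⟨Fact.out, hf, trivial, ?_⟩
  rw [← hF, (table.{0}).e8 F _ rfl]
  simp only [Art.dd, Art.NN, Art.num]
  ring

theorem real_e7 {f : ℕ} (hf : 1 ≤ f) (hF : Fintype.card F = p ^ f) :
    Art.Real .E7 p f (Nat.card ↥(Lie.chevE7.group F)) := by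
  refine ⟨Fact.out, hf, trivial, ?_⟩
  have h := (table.{0}).e7 F _ rfl
  rw [← hF]
  simp only [Art.dd, Art.NN, Art.num]
  rw [h]
  ring

theorem real_e6 {f : ℕ} (hf : 1 ≤ f) (hF : Fintype.card F = p ^ f) :
    Art.Real .E6 p f (Nat.card ↥(Lie.chevE6.group F)) := by
  refine ⟨Fact.out, hf, trivial, ?_⟩
  have h := (table.{0}).e6 F _ rfl
  rw [← hF]
  simp only [Art.dd, Art.NN, Art.num]
  rw [h]
  ring

theorem real_f4 {f : ℕ} (hf : 1 ≤ f) (hF : Fintype.card F = p ^ f) :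
    Art.Real .F4 p f (Nat.card ↥(Lie.chevF4.group F)) := by
  refine ⟨Fact.out, hf, trivial, ?_⟩
  rw [← hF, (table.{0}).f4 F _ rfl]
  simp only [Art.dd, Art.NN, Art.num]
  ring

theorem real_te6 {f : ℕ} (hf : 1 ≤ f) (hF : Fintype.card F = (p ^ f) ^ 2) :
    Art.Real .TE6 p f (Nat.card ↥(Lie.twistedE6 F (p ^ f))) := by
  refine ⟨Fact.out, hf, trivial, ?_⟩
  have h := (table.{0}).te6 F _ ((Fact.out : p.Prime).isPrimePow.pow (by omega)) hF
  simp only [Art.dd, Art.NN, Art.num]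
  rw [h]
  ring

theorem real_td4 {f : ℕ} (hf : 1 ≤ f) (hF : Fintype.card F = (p ^ f) ^ 3) :
    Art.Real .TD4 p f (Nat.card ↥(Lie.twistedD4 F (p ^ f))) := by
  refine ⟨Fact.out, hf, trivial, ?_⟩
  rw [(table.{0}).td4 F _ ((Fact.out : p.Prime).isPrimePow.pow (by omega)) hF]
  simp only [Art.dd, Art.NN, Art.num]
  ring

end models

/-- `q` with `|K| = q ^ k` is a power of the characteristic -/
theorem exists_pow {K : Type} [Field K] [Fintype K] {p q k : ℕ} [Fact p.Prime] [CharP K p] (hk : k ≠ 0)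
    (hq : IsPrimePow q) (hK : Fintype.card K = q ^ k) : ∃ f, 1 ≤ f ∧ q = p ^ f := by
  obtain ⟨f, -, hf⟩ := FiniteField.card K p
  obtain ⟨r, j, hr, hj, rfl⟩ := hq
  have h1 : r ∣ p ^ (f : ℕ) := by
    rw [← hf, hK]
    exact dvd_pow (dvd_pow_self r (by omega)) hk
  have h2 := (Nat.prime_dvd_prime_iff_eq hr.nat_prime (Fact.out : p.Prime)).1 (hr.nat_prime.dvd_of_dvd_pow h1)
  exact ⟨j, hj, by rw [h2]⟩

end Cfsg.Agent.H889.Enum
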