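import Cfsg.Agent.H290.ElCross
import Cfsg.Agent.H364.LieNam
import Cfsg.Agent.H912.KnownSplit

/-!
# S5745, layer ENUM: the simple groups of Lie type in cross characteristic with a faithful representation of degree `≤ 248`

`cross_lie` : `T` known simple nonabelian, `Fth n F T` (faithful of degree `n ≤ 248` over `F`, `char F = p`), not of Lie
type in characteristic `p`: `T` is alternating, the Tits group, sporadic, or has a name `g` with
`(X, (l, a)) ∈ reg n`, `l ≠ p`.

`fth_e8 … fth_g2`, `fth_te6`, `fth_td4`, `fth_tf4` : the adjoint representation of the models.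
-/

set_option autoImplicit false

namespace Cfsg.Agent.H889.Enum

open Cfsg Cfsg.Agent.OrdDiv Cfsg.Agent.H902 Cfsg.Agent.H902.Names Cfsg.Agent.H290.ElReg
open scoped MatrixGroups

/-- `T` has a name of Lie type in characteristic `l ≠ p` in the region of degree `n` -/
def InReg (n p : ℕ) (T : Type) [Group T] : Prop :=
  ∃ (g : Grp) (X : Art.Sh) (l a : ℕ), IsLie g X l a ∧ OrdDiv.Real g T ∧ Art.Real X l a (Nat.card T) ∧
    (X, (l, a)) ∈ Cfsg.Agent.H290.ElTab.reg n ∧ l ≠ p

theorem cross_lie (OT : OrderTable.{0}) {n p : ℕ} [Fact p.Prime] (hn : n ≤ 248) {F : Type} [Field F] [CharP F p]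
    {T : Type} [Group T] [Finite T] [IsSimpleGroup T] (hna : ¬ ∀ a b : T, a * b = b * a) (hk : IsKnownSimple' T)
    (hf : Fth n F T) (hL : ¬ IsLieTypeChar p T) :
    IsAlternating T ∨ Lie.IsoTits T ∨ IsSporadicGroup T ∨ InReg n p T := by
  have hna' : ¬ IsMulCommutative T := fun h => hna fun a b => h.is_comm.comm a b
  rcases H912.Known.known_split hk (H912.Known.not_primeCyclic hna') with h | ⟨r, hr, h⟩ | h | h
  · exact Or.inl h
  · have hrp : r ≠ p := by
      rintro rfl
      exact hL h
    obtain ⟨g, X, f, hg, hR, hA⟩ := H364.LieNam.lie_nam OT hr h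
    have hrF : (r : F) ≠ 0 := by
      intro h0
      exact hrp ((Nat.prime_dvd_prime_iff_eq (Fact.out : p.Prime) hr).1 ((CharP.cast_eq_zero_iff F p r).1 h0)).symm
    have hlb := lb_le hna hn hf hg hR hA hrF
    exact Or.inr (Or.inr (Or.inr ⟨g, X, r, f, hg, hR, hA,
      Cfsg.Agent.H290.ElCross.mem_reg hn hA.hp hA.hf hA.ok hlb, hrp⟩))
  · exact Or.inr (Or.inl h)
  · exact Or.inr (Or.inr (Or.inl h))

/-! ### the adjoint representations of the models -/

theorem fth_sub {ι : Type} [Fintype ι] [DecidableEq ι] {F : Type} [Field F] (G : Subgroup (GL ι F)) {n : ℕ}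
    (hn : Fintype.card ι = n) : Fth n F ↥G := by
  subst hn
  exact Fth.of (ρ := G.subtype) G.subtype_injective

/-- a group with an injection into a group with a faithful representation -/
theorem fth_of {n : ℕ} {F : Type} [Field F] {G T : Type} [Group G] [Group T] (h : Fth n F G) {f : T →* G}
    (hf : Function.Injective f) : Fth n F T := h.sub f hf

theorem card_e8 : Fintype.card Lie.chevE8.Idx = 248 := by
  show Fintype.card (Fin 8 ⊕ Fin 240) = 248
  rw [Fintype.card_sum, Fintype.card_fin, Fintype.card_fin]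

theorem card_e7 : Fintype.card Lie.chevE7.Idx = 133 := by
  show Fintype.card (Fin 7 ⊕ Fin 126) = 133
  rw [Fintype.card_sum, Fintype.card_fin, Fintype.card_fin]

theorem card_e6 : Fintype.card Lie.chevE6.Idx = 78 := by
  show Fintype.card (Fin 6 ⊕ Fin 72) = 78
  rw [Fintype.card_sum, Fintype.card_fin, Fintype.card_fin]

theorem card_f4 : Fintype.card Lie.chevF4.Idx = 52 := by
  show Fintype.card (Fin 4 ⊕ Fin 48) = 52
  rw [Fintype.card_sum, Fintype.card_fin, Fintype.card_fin]

theorem card_d4 : Fintype.card Lie.chevD4.Idx = 28 := by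
  show Fintype.card (Fin 4 ⊕ Fin 24) = 28
  rw [Fintype.card_sum, Fintype.card_fin, Fintype.card_fin]

theorem card_g2 : Fintype.card Lie.chevG2.Idx = 14 := by
  show Fintype.card (Fin 2 ⊕ Fin 12) = 14
  rw [Fintype.card_sum, Fintype.card_fin, Fintype.card_fin]

section models

variable (F : Type) [Field F]

theorem fth_e8 : Fth 248 F ↥(Lie.chevE8.group F) := fth_sub _ card_e8

theorem fth_e7 : Fth 133 F ↥(Lie.chevE7.group F) := fth_sub _ card_e7

theorem fth_e6 : Fth 78 F ↥(Lie.chevE6.group F) := fth_sub _ card_e6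

theorem fth_f4 : Fth 52 F ↥(Lie.chevF4.group F) := fth_sub _ card_f4

theorem fth_g2 : Fth 14 F ↥(Lie.chevG2.group F) := fth_sub _ card_g2

theorem fth_te6 (q : ℕ) : Fth 78 F ↥(Lie.twistedE6 F q) := fth_sub _ card_e6

theorem fth_td4 (q : ℕ) : Fth 28 F ↥(Lie.twistedD4 F q) := fth_sub _ card_d4

theorem fth_tf4 (e : ℕ) : Fth 52 F ↥(Lie.twistedF4 F e) := fth_sub _ card_f4

theorem fth_tits : Fth 52 (ZMod 2) ↥(Lie.twistedF4 (ZMod 2) 1) := fth_sub _ card_f4

end models

end Cfsg.Agent.H889.Enum
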