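import Cfsg.Agent.H59.EP.UBGen
import Cfsg.Agent.H226.EX.Glue
import Cfsg.Agent.S0494
import Cfsg.Agent.S0496
import Cfsg.Agent.S2119

/-!
# S5745, layer UB: a sharper bound (helper889)

The two-point stabilisers `M = N_A(X)`, `X` elementary abelian, are counted with Sylow's theorem: an elementary abelian
`s`-subgroup `X ≠ 1` of `A` lies in one of the `≤ |A| / s ^ a` Sylow `s`-subgroups. Moreover a nonabelian simple group has
at least 120 generating pairs, and the products `T ^ k`, `k ≥ 2`, occur only if `m ^ 2 ∣ |A|` for some `m ≥ 60`.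
-/

set_option autoImplicit false

namespace Cfsg.Agent.H889.Enum

open Subgroup Cfsg.Agent.H284 Cfsg.Agent.H59.EP
open scoped commutatorElement

universe u

/-! ### the elementary abelian subgroups -/

section count

variable {B : Type u} [Group B]

theorem ncard_elab_syl [Finite B] {s : ℕ} (hs : s.Prime) :
    {X : Subgroup B | ElAb s X ∧ X ≠ ⊥}.ncard ≤
      gal s ((Nat.card B).factorization s) * (Nat.card B / s ^ (Nat.card B).factorization s) := by
  classical
  have : Fact s.Prime := ⟨hs⟩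
  have : Fintype (Sylow s B) := Fintype.ofFinite _
  have hsub : {X : Subgroup B | ElAb s X ∧ X ≠ ⊥} ⊆
      ⋃ P ∈ (Finset.univ : Finset (Sylow s B)), {E : Subgroup B | E ≤ (P : Subgroup B) ∧ ElAb s E ∧ E ≠ ⊥} := by
    rintro X ⟨h1, h2⟩
    have hps : IsPGroup s X := by
      rintro ⟨y, hy⟩
      refine ⟨1, Subtype.ext ?_⟩
      rw [pow_one]
      exact h1.exp y hy
    obtain ⟨R, hR⟩ := hps.exists_le_sylow
    rw [Set.mem_iUnion₂]
    exact ⟨R, Finset.mem_univ _, hR, h1, h2⟩
  refine (Set.ncard_le_ncard hsub (Set.toFinite _)).trans ?_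
  refine (Finset.set_ncard_biUnion_le _ _).trans ?_
  refine (Finset.sum_le_card_nsmul _ _ _ (fun P _ => ncard_elab_le hs (P.card_eq_multiplicity))).trans ?_
  rw [smul_eq_mul, mul_comm, Finset.card_univ]
  apply Nat.mul_le_mul_left
  let P : Sylow s B := default
  have h1 : Nat.card (Sylow s B) ∣ (P : Subgroup B).index := P.card_dvd_index
  have h2 : Nat.card (P : Subgroup B) = s ^ (Nat.card B).factorization s := P.card_eq_multiplicity
  have h3 := (P : Subgroup B).card_mul_index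
  rw [h2] at h3
  have h4 : Nat.card B / s ^ (Nat.card B).factorization s = (P : Subgroup B).index := by
    exact Nat.div_eq_of_eq_mul_right (pow_pos hs.pos _) h3.symm
  rw [h4, ← Nat.card_eq_fintype_card]
  exact Nat.le_of_dvd (Nat.pos_of_ne_zero Subgroup.index_ne_zero_of_finite) h1

/-- with the normaliser of index at most `|B| / 6` -/
theorem ncard_elab_max [Finite B] {s : ℕ} (hs : s.Prime) {c : ℕ} (hc : c ≤ Nat.card B / 6) :
    {X : Subgroup B | ElAb s X ∧ X ≠ ⊥ ∧ (normalizer (X : Set B)).index ≤ c}.ncard ≤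
      gal s ((Nat.card B).factorization s) * (Nat.card B / max 6 (s ^ (Nat.card B).factorization s)) := by
  rcases le_total 6 (s ^ (Nat.card B).factorization s) with h | h
  · rw [max_eq_right h]
    refine (Set.ncard_le_ncard ?_ (Set.toFinite _)).trans (ncard_elab_syl hs)
    rintro X ⟨h1, h2, -⟩
    exact ⟨h1, h2⟩
  · rw [max_eq_left h]
    exact (ncard_elab_class_le hs).trans (Nat.mul_le_mul_left _ hc)

/-! ### simple subgroups -/

theorem card_mulAut_le {X : Type*} [Group X] [Finite X] {a b : X} (hab : closure ({a, b} : Set X) = ⊤) :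
    Nat.card (MulAut X) ≤ {p : X × X | closure ({p.1, p.2} : Set X) = ⊤}.ncard := by
  have hinj : Function.Injective (fun φ : MulAut X => (φ a, φ b)) := by
    intro φ ψ h
    simp only [Prod.mk.injEq] at h
    have h1 : φ.toMonoidHom = ψ.toMonoidHom := by
      apply MonoidHom.eq_of_eqOn_dense hab
      rintro x (rfl | rfl)
      · exact h.1
      · exact h.2
    exact MulEquiv.ext fun x => DFunLike.congr_fun h1 x
  rw [← Set.ncard_univ, ← Set.ncard_image_of_injective _ hinj]
  refine Set.ncard_le_ncard ?_ (Set.toFinite _)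
  rintro _ ⟨φ, -, rfl⟩
  show closure ({φ a, φ b} : Set X) = ⊤
  have h3 : ({φ a, φ b} : Set X) = φ.toMonoidHom '' {a, b} := by
    rw [Set.image_pair]
    rfl
  rw [h3, ← MonoidHom.map_closure, hab]
  exact Subgroup.map_top_of_surjective _ φ.surjective

theorem aut_ge {X : Type*} [Group X] [Finite X] [IsSimpleGroup X] (hX : ¬ Group.IsSolvable X) :
    120 ≤ Nat.card (MulAut X) := by
  have hna : ¬ IsMulCommutative X := fun h => hX (Group.isSolvable_of_comm fun a b => h.is_comm.comm a b)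
  have h60 := Cfsg.Agent.H168.NoSolv.sixty_le hX
  have hinj : Function.Injective (MulAut.conj : X →* MulAut X) := by
    rw [← MonoidHom.ker_eq_bot_iff]
    rcases IsSimpleGroup.eq_bot_or_eq_top_of_normal (MulAut.conj : X →* MulAut X).ker inferInstance with h | h
    · exact h
    · exfalso
      apply hna
      refine ⟨⟨fun a b => ?_⟩⟩
      have h1 : a ∈ (MulAut.conj : X →* MulAut X).ker := by rw [h]; exact Subgroup.mem_top _
      have h2 := DFunLike.congr_fun ((MonoidHom.mem_ker).1 h1) b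
      rw [MulAut.conj_apply, MulAut.one_apply] at h2
      exact mul_inv_eq_iff_eq_mul.1 h2
  have hle : Nat.card X ≤ Nat.card (MulAut X) := Nat.card_le_card_of_injective _ hinj
  by_cases h120 : 120 ≤ Nat.card X
  · exact h120.trans hle
  · have h1 := Cfsg.Agent.S0496.result (G := X) hna (by omega)
    have h2 : Nat.card X = 60 := by omega
    obtain ⟨e⟩ := Cfsg.Agent.S0494.result (G := X) h2
    rw [Nat.card_congr (MulAut.congr e).toEquiv,
      ← Nat.card_congr (Equiv.ofBijective _ (Cfsg.Agent.S2119.result 5 (by norm_num) (by norm_num))),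
      Nat.card_perm, Nat.card_eq_fintype_card, Fintype.card_fin]
    decide

/-- the subgroups with many generating pairs -/
theorem ncard_pair_le [Finite B] {𝒮 : Set (Subgroup B)} {w : ℕ} (hw0 : 0 < w)
    (hw : ∀ X ∈ 𝒮, w ≤ {p : X × X | closure ({p.1, p.2} : Set X) = ⊤}.ncard) :
    𝒮.ncard ≤ Nat.card B ^ 2 / w := by
  classical
  rw [Nat.le_div_iff_mul_le hw0]
  have hfin : 𝒮.Finite := Set.toFinite _
  let G : Subgroup B → Set (B × B) := fun X => {p | closure ({p.1, p.2} : Set B) = X}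
  have hG : ∀ X ∈ 𝒮, w ≤ (G X).ncard := by
    intro X hX
    refine (hw X hX).trans ?_
    refine Set.ncard_le_ncard_of_injOn (fun p => ((p.1 : B), (p.2 : B))) ?_ ?_ (Set.toFinite _)
    · rintro ⟨a, b⟩ hp
      show closure ({(a : B), (b : B)} : Set B) = X
      have h1 := congrArg (Subgroup.map X.subtype) (show closure ({a, b} : Set X) = ⊤ from hp)
      rw [MonoidHom.map_closure, Set.image_pair, ← MonoidHom.range_eq_map, X.range_subtype] at h1
      exact h1
    · rintro ⟨a, b⟩ _ ⟨a', b'⟩ _ h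
      simp only [Prod.mk.injEq] at h
      obtain ⟨h1, h2⟩ := h
      rw [Subtype.ext h1, Subtype.ext h2]
  have hdis : (hfin.toFinset : Set (Subgroup B)).PairwiseDisjoint fun X => (Set.toFinite (G X)).toFinset := by
    intro X _ Y _ hne
    rw [Function.onFun, Finset.disjoint_left]
    intro p hp hq
    rw [Set.Finite.mem_toFinset] at hp hq
    exact hne (hp.symm.trans hq)
  have h1 : (hfin.toFinset.biUnion fun X => (Set.toFinite (G X)).toFinset).card ≤ Nat.card (B × B) := by
    have := Set.ncard_le_ncard (Set.subset_univ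
      ((hfin.toFinset.biUnion fun X => (Set.toFinite (G X)).toFinset : Finset (B × B)) : Set (B × B)))
      (Set.toFinite _)
    rw [Set.ncard_coe_finset, Set.ncard_univ] at this
    exact this
  rw [Finset.card_biUnion hdis, Nat.card_prod] at h1
  have e3 : Nat.card B * Nat.card B = Nat.card B ^ 2 := by ring
  rw [e3] at h1
  refine le_trans ?_ h1
  rw [Set.ncard_eq_toFinset_card _ hfin, ← smul_eq_mul]
  apply Finset.card_nsmul_le_sum
  intro X hX
  rw [← Set.ncard_eq_toFinset_card _ (Set.toFinite _)]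
  exact hG X (hfin.mem_toFinset.1 hX)

/-! ### characteristically simple groups -/

/-- **characteristically simple groups**, with a square in the order for the products -/
theorem char_simple_sq (hg : TwoGen.{0}) {X : Type*} [Group X] [Finite X] [Nontrivial X]
    (hc : ∀ Y : Subgroup X, Y.Characteristic → Y = ⊥ ∨ Y = ⊤) (hcard : Nat.card X < 60 ^ 61) :
    (∃ s : ℕ, s.Prime ∧ s ∣ Nat.card X ∧ ElAb s (⊤ : Subgroup X)) ∨
      ((IsSimpleGroup X ∧ ¬ Group.IsSolvable X) ∧ ∃ a b : X, closure ({a, b} : Set X) = ⊤) ∨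
      (12744000 ≤ {p : X × X × X | closure ({p.1, p.2.1, p.2.2} : Set X) = ⊤}.ncard ∧
        ∃ m, 60 ≤ m ∧ m ^ 2 ∣ Nat.card X) := by
  rcases char_simple_gen hg hc hcard with h | h | h
  · exact Or.inl h
  · exact Or.inr (Or.inl h)
  by_cases hcomm : ∀ a b : X, a * b = b * a
  · exact Or.inl (elab_of_comm hc hcomm)
  right
  obtain ⟨T, hT1, hT2, n, hn, ⟨e⟩⟩ := Cfsg.Agent.S5914.result.1 hc
  have h0 : 0 < n := by omega
  have hTf : Finite T := Finite.of_injective (fun t : T => e.symm (Pi.mulSingle ⟨0, h0⟩ t)) fun t s h =>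
    Pi.mulSingle_injective _ (e.symm.injective h)
  have hTc : ¬ ∀ a b : T, a * b = b * a := by
    intro h
    apply hcomm
    intro a b
    apply e.injective
    rw [map_mul, map_mul]
    ext i
    exact h _ _
  have hTs : ¬ Group.IsSolvable T := by
    intro h
    have h1 : commutator T < ⊤ := Group.IsSolvable.commutator_lt_top_of_nontrivial T
    rcases hT2.eq_bot_or_eq_top_of_normal (commutator T) inferInstance with h2 | h2
    · apply hTc
      intro a b
      have h1 : ⁅a, b⁆ ∈ commutator T := commutator_mem_commutator (mem_top _) (mem_top _)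
      rw [h2, mem_bot, commutatorElement_eq_one_iff_mul_comm] at h1
      exact h1
    · exact h1.ne h2
  have h60 := Cfsg.Agent.H168.NoSolv.sixty_le hTs
  have hXc : Nat.card X = Nat.card T ^ n := by
    rw [Nat.card_congr e.toEquiv, Nat.card_pi, Finset.prod_const, Finset.card_univ, Fintype.card_fin]
  rcases Nat.lt_or_ge n 2 with h2 | h2
  · left
    obtain ⟨a, b, hab⟩ := hg T
    obtain rfl : n = 1 := by omega
    let E : T ≃* X := (MulEquiv.piUnique (fun _ : Fin 1 => T)).symm.trans e.symm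
    refine ⟨⟨E.symm.isSimpleGroup, fun h => hTs ?_⟩, E a, E b, ?_⟩
    · exact Group.isSolvable_of_isSolvable_injective (f := E.toMonoidHom) E.injective
    · have h3 : ({E a, E b} : Set X) = E.toMonoidHom '' {a, b} := by
        rw [Set.image_pair]
        rfl
      rw [h3, ← MonoidHom.map_closure, hab]
      exact Subgroup.map_top_of_surjective _ E.surjective
  · right
    exact ⟨h, Nat.card T, h60, by rw [hXc]; exact pow_dvd_pow _ h2⟩

/-! ### the counting theorem -/

/-- the bound for the number of products -/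
def w3 (n : ℕ) (z : Bool) : ℕ := if z then 0 else n ^ 3 / 12744000

theorem ncard_le_syl [Finite B] (hg : TwoGen.{0}) (hB : Nat.card B < 60 ^ 61)
    {𝓜 : Set (Subgroup B)} {c : ℕ} (hc6 : c ≤ Nat.card B / 6) (hc : ∀ M ∈ 𝓜, M.index ≤ c) (hnt : ∀ M ∈ 𝓜, M ≠ ⊥)
    (hch : ∀ M ∈ 𝓜, ∀ K : Subgroup M, K.Characteristic → K ≠ ⊥ → ∀ b : B,
      (∀ k ∈ K.map M.subtype, b * k * b⁻¹ ∈ K.map M.subtype) → b ∈ M)
    {z : Bool} (hz : z = true → ∀ m, 60 ≤ m → ¬ m ^ 2 ∣ Nat.card B) :
    𝓜.ncard ≤ ∑ s ∈ (Nat.card B).primeFactors, gal s ((Nat.card B).factorization s) *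
        (Nat.card B / max 6 (s ^ (Nat.card B).factorization s)) + Nat.card B ^ 2 / 120 + w3 (Nat.card B) z := by
  classical
  have key : ∀ M ∈ 𝓜, ∃ X : Subgroup B, normalizer (X : Set B) = M ∧
      ((∃ s ∈ (Nat.card B).primeFactors, ElAb s X ∧ X ≠ ⊥) ∨
        ((IsSimpleGroup X ∧ ¬ Group.IsSolvable X) ∧ ∃ a b : X, closure ({a, b} : Set X) = ⊤) ∨
        (12744000 ≤ {p : X × X × X | closure ({p.1, p.2.1, p.2.2} : Set X) = ⊤}.ncard ∧ z = false)) := by
    intro M hM
    obtain ⟨X, h1, _, h3, h4⟩ := exists_key (hnt M hM) (hch M hM)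
    refine ⟨X, h1, ?_⟩
    have hXn : Nontrivial X := (Subgroup.nontrivial_iff_ne_bot X).2 h3
    have hXB : Nat.card X ∣ Nat.card B := Subgroup.card_subgroup_dvd_card X
    rcases char_simple_sq hg h4 ((Nat.le_of_dvd Nat.card_pos hXB).trans_lt hB) with
      ⟨s, hs, hsd, hel⟩ | h | ⟨h, m, hm, hmd⟩
    · left
      refine ⟨s, Nat.mem_primeFactors.2 ⟨hs, hsd.trans hXB, Nat.card_pos.ne'⟩, ⟨?_, ?_⟩, h3⟩
      · intro a ha b hb
        exact Subtype.ext_iff.1 (hel.comm ⟨a, ha⟩ (mem_top _) ⟨b, hb⟩ (mem_top _))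
      · intro a ha
        exact Subtype.ext_iff.1 (hel.exp ⟨a, ha⟩ (mem_top _))
    · exact Or.inr (Or.inl h)
    · refine Or.inr (Or.inr ⟨h, ?_⟩)
      by_contra hcon
      exact hz (by simpa using hcon) m hm (hmd.trans hXB)
  choose! f hf1 hf2 using key
  have hinj : Set.InjOn f 𝓜 := by
    intro M hM N hN e
    rw [← hf1 M hM, ← hf1 N hN, e]
  rw [← hinj.ncard_image]
  have hsub : f '' 𝓜 ⊆ ((⋃ s ∈ (Nat.card B).primeFactors,
      {X : Subgroup B | ElAb s X ∧ X ≠ ⊥ ∧ (normalizer (X : Set B)).index ≤ c}) ∪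
      {X : Subgroup B | (IsSimpleGroup X ∧ ¬ Group.IsSolvable X) ∧ ∃ a b : X, closure ({a, b} : Set X) = ⊤}) ∪
      {X : Subgroup B | 12744000 ≤ {p : X × X × X | closure ({p.1, p.2.1, p.2.2} : Set X) = ⊤}.ncard ∧
        z = false} := by
    rintro _ ⟨M, hM, rfl⟩
    rcases hf2 M hM with ⟨s, hs, h1, h2⟩ | h | h
    · left
      left
      simp only [Set.mem_iUnion]
      exact ⟨s, hs, h1, h2, by rw [hf1 M hM]; exact hc M hM⟩
    · left
      right
      exact h
    · right
      exact h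
  refine (Set.ncard_le_ncard hsub (Set.toFinite _)).trans ((Set.ncard_union_le _ _).trans (Nat.add_le_add
    ((Set.ncard_union_le _ _).trans (Nat.add_le_add ?_ ?_)) ?_))
  · have hun : ∀ I : Finset ℕ, (⋃ s ∈ I, {X : Subgroup B | ElAb s X ∧ X ≠ ⊥ ∧
        (normalizer (X : Set B)).index ≤ c}).ncard ≤
        ∑ s ∈ I, {X : Subgroup B | ElAb s X ∧ X ≠ ⊥ ∧ (normalizer (X : Set B)).index ≤ c}.ncard := by
      intro I
      induction I using Finset.induction_on with
      | empty => simp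
      | insert j I hj ih =>
        rw [Finset.sum_insert hj, Finset.set_biUnion_insert]
        exact (Set.ncard_union_le _ _).trans (Nat.add_le_add_left ih _)
    refine (hun _).trans ?_
    exact Finset.sum_le_sum fun s hs => ncard_elab_max (Nat.prime_of_mem_primeFactors hs) hc6
  · refine ncard_pair_le (by norm_num) ?_
    rintro X ⟨⟨h1, h2⟩, a, b, hab⟩
    exact (aut_ge h2).trans (card_mulAut_le hab)
  · rw [w3]
    split_ifs with h
    · rw [Nat.le_zero, Set.ncard_eq_zero (Set.toFinite _), Set.eq_empty_iff_forall_notMem]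
      rintro X ⟨-, h2⟩
      rw [h] at h2
      exact absurd h2 (by decide)
    · exact ncard_triple_le (by norm_num) (fun X hX => hX.1)

end count

/-! ### two-point stabilisers -/

section ept

variable {Q : Type u} [Group Q] [Finite Q] {A : Subgroup Q} {Γ : Subgroup (MulAut Q)}

/-- the sum -/
def sg (N n : ℕ) : ℕ :=
  ∑ s ∈ n.primeFactors, gal s (n.factorization s) * (N / max 6 (s ^ n.factorization s))

theorem EPT.ncard_le_syl (h : EPT A Γ) (hg : TwoGen.{0})
    (hab : ∀ K : Subgroup Q, K ≤ A → (∀ a ∈ A, ∀ k ∈ K, a * k * a⁻¹ ∈ K) → (∀ a ∈ K, ∀ b ∈ K, a * b = b * a) → K = ⊥)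
    (hB : Nat.card A < 60 ^ 61) {z : Bool} (hz : z = true → ∀ m, 60 ≤ m → ¬ m ^ 2 ∣ Nat.card A) :
    {M : Subgroup Q | ∃ x, x ∉ A ∧ M = A ⊓ cj x A}.ncard ≤
      sg (Nat.card A) (Nat.card A) + Nat.card A ^ 2 / 120 + w3 (Nat.card A) z := by
  obtain ⟨𝓜, h1, h2, h3, _, h4⟩ := EPT.transfer h (by norm_num : 0 < 6) fun _ hx => EPT.six_le h hab hx
  exact h1.trans (Cfsg.Agent.H889.Enum.ncard_le_syl hg hB le_rfl h2 h3 h4 hz)

theorem sg_mono {n N : ℕ} (h : n ∣ N) (hN : N ≠ 0) : sg n n ≤ sg N N := by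
  have hn : n ≠ 0 := ne_zero_of_dvd_ne_zero hN h
  rw [sg, sg]
  refine le_trans (Finset.sum_le_sum fun s hs => ?_) (Finset.sum_le_sum_of_subset (Nat.primeFactors_mono h hN))
  have hp := Nat.prime_of_mem_primeFactors hs
  have hv := (Nat.factorization_le_iff_dvd hn hN).2 h s
  refine Nat.mul_le_mul (gal_mono hp.one_lt hv) ?_
  have hle : n ≤ N := Nat.le_of_dvd (Nat.pos_of_ne_zero hN) h
  rcases le_total 6 (s ^ N.factorization s) with h6 | h6
  · rw [max_eq_right h6]
    have h1 : n / max 6 (s ^ n.factorization s) ≤ n / s ^ n.factorization s :=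
      Nat.div_le_div_left (le_max_right _ _) (pow_pos hp.pos _)
    refine h1.trans (Nat.le_of_dvd ?_ (Nat.ordCompl_dvd_ordCompl_of_dvd h s))
    exact Nat.ordCompl_pos s hN
  · rw [max_eq_left h6, max_eq_left ((Nat.pow_le_pow_right hp.pos hv).trans h6)]
    exact Nat.div_le_div_right hle

theorem w3_mono {n N : ℕ} (h : n ≤ N) (z : Bool) : w3 n z ≤ w3 N z := by
  rw [w3, w3]
  split_ifs
  · exact le_rfl
  · exact Nat.div_le_div_right (Nat.pow_le_pow_left h 3)

theorem sum_list (F : ℕ → ℕ → ℕ) (l : List (ℕ × ℕ)) (h1 : ∀ x ∈ l, x.1.Prime ∧ 0 < x.2)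
    (h2 : (l.map Prod.fst).Nodup) :
    ∑ s ∈ ((l.map fun x : ℕ × ℕ => x.1 ^ x.2).prod).primeFactors,
        F s (((l.map fun x : ℕ × ℕ => x.1 ^ x.2).prod).factorization s) =
      (l.map fun x => F x.1 x.2).sum := by
  induction l with
  | nil => simp
  | cons x l ih =>
    have h1' : ∀ y ∈ l, y.1.Prime ∧ 0 < y.2 := fun y hy => h1 y (List.mem_cons_of_mem _ hy)
    rw [List.map_cons, List.nodup_cons] at h2
    obtain ⟨-, i2, i3⟩ := galSum_list l h1' h2.2
    obtain ⟨hx, hx0⟩ := h1 x List.mem_cons_self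
    have hpm : ¬ x.1 ∣ (l.map fun x => x.1 ^ x.2).prod := fun hd => h2.1 (i3 _ hx hd)
    rw [List.map_cons, List.map_cons, List.prod_cons, List.sum_cons, ← ih h1' h2.2]
    have hpe : x.1 ^ x.2 ≠ 0 := pow_ne_zero _ hx.ne_zero
    rw [Nat.primeFactors_mul hpe i2, Nat.primeFactors_prime_pow hx0.ne' hx]
    have h3 : x.1 ∉ (l.map fun x : ℕ × ℕ => x.1 ^ x.2).prod.primeFactors := fun h => hpm (Nat.dvd_of_mem_primeFactors h)
    rw [Finset.singleton_union, Finset.sum_insert h3]
    congr 1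
    · congr 1
      rw [Nat.factorization_mul hpe i2, Finsupp.add_apply, hx.factorization_pow, Finsupp.single_eq_same,
        Nat.factorization_eq_zero_of_not_dvd hpm, add_zero]
    · apply Finset.sum_congr rfl
      intro s hs
      congr 1
      have hsp : s ≠ x.1 := by
        rintro rfl
        exact h3 hs
      rw [Nat.factorization_mul hpe i2, Finsupp.add_apply, hx.factorization_pow, Finsupp.single_eq_of_ne hsp,
        zero_add]

/-- **UB2, sharper form**, `|A|` divides the number with factorisation `l` -/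
theorem EPT.ncard_le_syl_list (h : EPT A Γ) (hg : TwoGen.{0})
    (hab : ∀ K : Subgroup Q, K ≤ A → (∀ a ∈ A, ∀ k ∈ K, a * k * a⁻¹ ∈ K) → (∀ a ∈ K, ∀ b ∈ K, a * b = b * a) → K = ⊥)
    (l : List (ℕ × ℕ)) (h1 : ∀ x ∈ l, x.1.Prime ∧ 0 < x.2) (h2 : (l.map Prod.fst).Nodup)
    {N : ℕ} (hN : (l.map fun x => x.1 ^ x.2).prod = N) (hc : Nat.card A ∣ N) (hB : N < 60 ^ 61)
    {z : Bool} (hz : z = true → ∀ m, 60 ≤ m → ¬ m ^ 2 ∣ N) :
    {M : Subgroup Q | ∃ x, x ∉ A ∧ M = A ⊓ cj x A}.ncard ≤
      (l.map fun x => gal x.1 x.2 * (N / max 6 (x.1 ^ x.2))).sum + N ^ 2 / 120 + w3 N z := by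
  obtain ⟨-, i2, -⟩ := galSum_list l h1 h2
  rw [hN] at i2
  have hle : Nat.card A ≤ N := Nat.le_of_dvd (Nat.pos_of_ne_zero i2) hc
  have h3 := EPT.ncard_le_syl h hg hab (hle.trans_lt hB) (z := z) fun h' m hm hd => hz h' m hm (hd.trans hc)
  refine h3.trans (Nat.add_le_add (Nat.add_le_add ?_ (Nat.div_le_div_right (Nat.pow_le_pow_left hle 2)))
    (w3_mono hle z))
  have h4 := sum_list (fun s v => gal s v * (N / max 6 (s ^ v))) l h1 h2
  rw [hN] at h4
  rw [← h4]
  exact sg_mono hc i2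

end ept

/-! ### the bound for `|G|` -/

section bound

open Cfsg.Agent.H209.EPX Cfsg.Agent.H226.EX

variable {G : Type} [Group G] [Finite G] [IsSimpleGroup G] {H N : Subgroup G} {T : Type} [Group T]

/-- the bound -/
def ubs (l : List (ℕ × ℕ)) (B : ℕ) (z : Bool) : ℕ :=
  (1 + ((l.map fun x => gal x.1 x.2 * (B / max 6 (x.1 ^ x.2))).sum + B ^ 2 / 120 + w3 B z) * (2 * (B / 6))) * B

/-- **the sharper bound for `|G|`**, `|H|` divides the number `B` with factorisation `l` -/
theorem card_le_syl (hg : TwoGen.{0}) {k : ℕ} {e : N ≃* (Fin k → T)} (h : EPS H N e) {B : ℕ}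
    (hd : Nat.card H ∣ B) (l : List (ℕ × ℕ)) (h1 : ∀ x ∈ l, x.1.Prime ∧ 0 < x.2) (h2 : (l.map Prod.fst).Nodup)
    (hB : (l.map fun x => x.1 ^ x.2).prod = B) (hlt : B < 60 ^ 61)
    {z : Bool} (hz : z = true → ∀ m, 60 ≤ m → ¬ m ^ 2 ∣ B) : Nat.card G ≤ ubs l B z := by
  have hB0 : 0 < B := by
    obtain ⟨_, i2, _⟩ := galSum_list l h1 h2
    rw [hB] at i2
    omega
  have h5 : Nat.card H ≤ B := Nat.le_of_dvd hB0 hd
  have h3 := EPT.ncard_le_syl_list (ept_of_eps h) hg (hab_of_eps h) l h1 h2 hB hd hlt hz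
  have h4 := index_le_of h3 (Cfsg.Agent.H173.EP.ub1 inferInstance (ept_of_eps h) (by norm_num)
    fun _ hx => EPT.six_le (ept_of_eps h) (hab_of_eps h) hx) le_rfl
  rw [← H.index_mul_card, ubs]
  refine Nat.mul_le_mul (h4.trans (Nat.add_le_add_left (Nat.mul_le_mul_left _ ?_) 1)) h5
  exact Nat.mul_le_mul_left 2 (Nat.div_le_div_right h5)

end bound

end Cfsg.Agent.H889.Enum
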